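import Groth.Agent.TauNum.Euler
import Groth.Agent.FppfPic.MReg
import Groth.Agent.HilbStrat.Sigma
import Groth.Agent.HilbSnap.UniformVan
import Groth.Agent.AmpleX.BaseChange
import Groth.Agent.AmpleX.EmbedOverApps
import Groth.Agent.PnVan.HomTw
import Groth.Agent.Nakai.KleimanDeg
import Groth.Agent.CurveCohLib.Proper
import Groth.Agent.ShStabLib.DimFinite

/-!
# Bounded families are uniformly regular and have finitely many Hilbert polynomials
-/

set_option autoImplicit false
set_option linter.style.haveILetI false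
set_option linter.unusedSectionVars false
set_option backward.isDefEq.respectTransparency false
set_option backward.isDefEq.respectTransparency.types false
set_option maxHeartbeats 1000000
attribute [-instance] CategoryTheory.catToReflQuiver

universe u

open CategoryTheory CategoryTheory.Limits AlgebraicGeometry TopologicalSpace Opposite

noncomputable section

namespace Groth.Agent.TauNum

open Groth.Agent Groth.Agent.H23
open scoped Groth.Agent.H23.PicMul

variable {k : Type u} [Field k] {n : ℕ}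

theorem isInvertible_twist (d : ℤ) : PicF.IsInvertible (Twist.twistProjSpace n k d) :=
  PnCoh.Finite.isInvertible_twist (𝒜 := CohB1.polyGrading n k)
    (fun j : Fin (n + 1) => (MvPolynomial.X j : MvPolynomial (Fin (n + 1)) k))
    (fun j => ProjPt.X_mem j) (top_le_iff.1 fun y _ => Opens.mem_iSup.2 (ProjUPX.cov_X y)) d

theorem cl_twist_add (a b : ℤ) :
    PicF.cl (Twist.twistProjSpace n k a) * PicF.cl (Twist.twistProjSpace n k b) =
      PicF.cl (Twist.twistProjSpace n k (a + b)) := by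
  rw [← PicMul.cl_tensor]
  exact PicMul.cl_eq_iff.2 (PnCoh.Finite.twist_tensor_iso (𝒜 := CohB1.polyGrading n k)
    (g := fun j : Fin (n + 1) => (MvPolynomial.X j : MvPolynomial (Fin (n + 1)) k))
    (fun j => ProjPt.X_mem j) (top_le_iff.1 fun y _ => Opens.mem_iSup.2 (ProjUPX.cov_X y)) a b)

theorem cl_twist_natCast (j : ℕ) :
    PicF.cl (Twist.twistProjSpace n k (j : ℤ)) = PicF.cl (Twist.twistProjSpace n k 1) ^ j := by
  rw [← PicMul.cl_tensorPow]
  exact PicMul.cl_eq_iff.2 (PnCoh.Finite.twist_tensorPow_iso (𝒜 := CohB1.polyGrading n k)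
    (g := fun j : Fin (n + 1) => (MvPolynomial.X j : MvPolynomial (Fin (n + 1)) k))
    (fun j => ProjPt.X_mem j) (top_le_iff.1 fun y _ => Opens.mem_iSup.2 (ProjUPX.cov_X y)) j)

variable {X : Scheme.{u}} (i : X ⟶ CohB1.ProjSpace n k)

/-- `O_X(1)`. -/
abbrev O1 : X.Modules := (Scheme.Modules.pullback i).obj (Twist.twistProjSpace n k 1)

theorem cl_twistOn_add (F : X.Modules) (a : ℤ) (j : ℕ) :
    PicF.cl (Pic13.twistOn k i F (a + j)) = PicF.cl (Pic13.twistOn k i F a) * PicF.cl (O1 i) ^ j := by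
  unfold Pic13.twistOn
  rw [PicMul.cl_tensor, PicMul.cl_tensor, mul_assoc]
  refine congrArg (PicF.cl F * ·) ?_
  show PicF.pullCl i (PicF.cl _) = PicF.pullCl i (PicF.cl _) * PicF.pullCl i (PicF.cl _) ^ j
  rw [← cl_twist_add, PicMul.pullCl_mul, cl_twist_natCast, PicMul.pullCl_pow]

theorem cl_twistOn_natCast (F : X.Modules) (j : ℕ) :
    PicF.cl (Pic13.twistOn k i F (j : ℤ)) = PicF.cl F * PicF.cl (O1 i) ^ j := by
  unfold Pic13.twistOn
  rw [PicMul.cl_tensor]
  refine congrArg (PicF.cl F * ·) ?_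
  show PicF.pullCl i (PicF.cl _) = PicF.pullCl i (PicF.cl _) ^ j
  rw [cl_twist_natCast, PicMul.pullCl_pow]

theorem isInvertible_O1 : PicF.IsInvertible (O1 i) :=
  PicClLib.isInvertible_pullback i (isInvertible_twist 1)

variable [X.Over (Spec (CommRingCat.of k))] [IsClosedImmersion i]

theorem subsingleton_HH_high {G : X.Modules} (hG : Coh.IsCoh G) (d : ℤ) (q : ℕ) (hq : n < q) :
    Subsingleton (Coh.HH X (Pic13.twistOn k i G d) q) :=
  (FppfPic.MReg.hh_iff k n i G hG d q).2
    (ProjRegular.subsingleton_HH_high (QCoh.isCoh_pushforward_finite i hG) d q hq)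

variable [IsProper (X ↘ Spec (CommRingCat.of k))]

theorem eulerCharLE_twistOn {G : X.Modules} (hG : Coh.IsCoh G) (d : ℤ) :
    FGA.eulerCharLE k X (Pic13.twistOn k i G d) n = Curv2.euler k X (Pic13.twistOn k i G d) := by
  haveI := CurveCohLib.isNoetherian_of_proper (k := k) (X := X)
  exact (Euler.euler_eq_sum k (Pic13.twistOn k i G d) (n + 1) fun q hq =>
    subsingleton_HH_high i hG d q (by omega)).symm

theorem isCoh_twistOn [IsLocallyNoetherian X] {G : X.Modules} (hG : Coh.IsCoh G) (d : ℤ) :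
    Coh.IsCoh (Pic13.twistOn k i G d) :=
  AmpleVan.isCoh_tensor hG (CurveDeg.isCoh_of_isInvertible
    (PicClLib.isInvertible_pullback i (isInvertible_twist d)))

/-- The Hilbert polynomial, valid at every integer. -/
theorem exists_hilbert_poly {F : X.Modules} (hF : Coh.IsCoh F) :
    ∃ φ : Polynomial ℚ, ∀ d : ℤ, (FGA.eulerCharLE k X (Pic13.twistOn k i F d) n : ℚ) = φ.eval (d : ℚ) := by
  haveI := CurveCohLib.isNoetherian_of_proper (k := k) (X := X)
  have hP : ∀ a : ℤ, ∃ P : Polynomial ℚ, ∀ j : ℕ,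
      (Curv2.euler k X (Pic13.twistOn k i F (a + j)) : ℚ) = P.eval (j : ℚ) := fun a => by
    have hd : ∃ D : ℕ, topologicalKrullDim ↥((⊤ : Closeds X) : Set X) < (D : WithBot ℕ∞) := by
      obtain ⟨d, hd⟩ := ShStabLib.exists_dim_le_proper k X
      exact ⟨d + 1, lt_of_le_of_lt (hd (⊤ : Closeds X)) (by exact_mod_cast Nat.lt_succ_self d)⟩
    obtain ⟨D, hD⟩ := hd
    obtain ⟨P, -, hP⟩ := Snapper.isPolyLt_of_dim_lt k (isInvertible_O1 i) D ⊤
      hD _ (isCoh_twistOn i hF a)
      (Set.subset_univ _)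
    refine ⟨P, fun j => ?_⟩
    rw [← hP j]
    exact congrArg Int.cast (CurveCohLib.euler_congr (k := k) (PicMul.cl_eq_iff.1 (by
      rw [ShStab.twist, PicMul.cl_tensor, PicMul.cl_tensorPow, cl_twistOn_add])).some)
  choose P hP using hP
  refine ⟨P 0, fun d => ?_⟩
  rw [eulerCharLE_twistOn i hF]
  rcases Int.eq_nat_or_neg d with ⟨j, rfl | rfl⟩
  · have := hP 0 j
    rw [zero_add] at this
    exact_mod_cast this
  · have heq : P (-(j : ℤ)) = (P 0).comp (Polynomial.X - Polynomial.C (j : ℚ)) := by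
      refine HilbStrat.eq_of_eventually_eval_eq j fun m hm => ?_
      obtain ⟨e, rfl⟩ := Nat.exists_eq_add_of_le hm
      rw [← hP, show -(j : ℤ) + ((j + e : ℕ) : ℤ) = 0 + (e : ℤ) by push_cast; ring, hP]
      simp
    have := hP (-(j : ℤ)) 0
    rw [heq, Nat.cast_zero, add_zero] at this
    rw [this]
    simp

variable {T : Scheme.{u}} (q : T ⟶ Spec (CommRingCat.of k)) [IsLocallyNoetherian T]

theorem fiberRank_fibre {M : (Pic13.prodK k X q).Modules} (hM : Coh.IsQCoh M)
    (t : Spec (CommRingCat.of k) ⟶ T) (ht : t ≫ q = 𝟙 _) (j : ℕ) :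
    CohIII.fiberRank (pullback.snd (X ↘ Spec (CommRingCat.of k)) q) M j (t (IsLocalRing.closedPoint k)) =
      Module.finrank k (Coh.HH X (Pic13.fibreMod k X q t ht M) j) := by
  let f := X ↘ Spec (CommRingCat.of k)
  let pr := pullback.snd f q
  let p := t (IsLocalRing.closedPoint k)
  let φ : T.residueField p →+* k := (Scheme.descResidueField (Scheme.stalkClosedPointTo t)).hom
  have hfac : Spec.map (CommRingCat.ofHom φ) ≫ T.fromSpecResidueField p = t :=
    Scheme.descResidueField_stalkClosedPointTo_fromSpecResidueField k T t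
  let σ : X ⟶ Pic13.prodK k X q := Pic13.sliceAt k X q t ht
  let h : X ⟶ pr.fiber p := pullback.lift σ (f ≫ Spec.map (CommRingCat.ofHom φ)) (by
    rw [Category.assoc, hfac]; exact pullback.lift_snd _ _ _)
  have hh1 : h ≫ pr.fiberι p = σ := pullback.lift_fst _ _ _
  have hh2 : h ≫ pr.fiberToSpecResidueField p = f ≫ Spec.map (CommRingCat.ofHom φ) := pullback.lift_snd _ _ _
  have H1 : IsPullback σ f pr t := by
    refine IsPullback.of_right ?_ (pullback.lift_snd _ _ _).symm.symm (IsPullback.of_hasPullback f q)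
    have e1 : σ ≫ pullback.fst f q = 𝟙 X := pullback.lift_fst _ _ _
    rw [e1, ht]
    exact IsPullback.of_horiz_isIso ⟨by rw [Category.id_comp, Category.comp_id]⟩
  have H2 : IsPullback h f (pr.fiberToSpecResidueField p) (Spec.map (CommRingCat.ofHom φ)) := by
    refine IsPullback.of_right ?_ hh2 (IsPullback.of_hasPullback pr (T.fromSpecResidueField p))
    rw [hfac]
    exact hh1.symm ▸ H1
  letI : Algebra (T.residueField p) k := φ.toAlgebra
  haveI : IsProper pr := inferInstanceAs (IsProper (pullback.snd f q))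
  haveI : IsProper (pr.fiberToSpecResidueField p) := inferInstanceAs (IsProper (pullback.snd pr (T.fromSpecResidueField p)))
  haveI : CompactSpace (pr.fiber p) := QuasiCompact.compactSpace_of_compactSpace (pr.fiberToSpecResidueField p)
  haveI : QuasiSeparatedSpace (pr.fiber p) := quasiSeparatedSpace_of_quasiSeparated (pr.fiberToSpecResidueField p)
  have hqM : Coh.IsQCoh (CohIII.fiberMod pr M p) := QCoh.isQCoh_pullback _ hM
  let e : (Scheme.Modules.pullback h).obj (CohIII.fiberMod pr M p) ≅ Pic13.fibreMod k X q t ht M :=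
    (Scheme.Modules.pullbackComp h (pr.fiberι p)).app M ≪≫ (Scheme.Modules.pullbackCongr hh1).app M
  rw [← (CurveCohLib.hhEquiv (k := k) e j).finrank_eq]
  letI : (pr.fiber p).Over (Spec (CommRingCat.of (T.residueField p))) := ⟨pr.fiberToSpecResidueField p⟩
  exact (CurveBC.finrank_hh (T.residueField p) (X := pr.fiber p) k (X' := X) h H2 _ hqM j).symm

variable [CompactSpace T] [LocallyOfFiniteType q]

/-- A bounded family is uniformly regular and has finitely many Hilbert polynomials. -/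
theorem regular_of_bounded (F : (Pic13.prodK k X q).Modules) (hF : Coh.IsCoh F) (P : X.Modules → Prop)
    (hP : ∀ F', P F' → Coh.IsCoh F')
    (hmem : ∀ F', P F' → ∃ (t : Spec (CommRingCat.of k) ⟶ T) (ht : t ≫ q = 𝟙 _),
      Nonempty (Pic13.fibreMod k X q t ht F ≅ F')) :
    (∃ m : ℤ, ∀ F', P F' → Pic13.IsMRegular k i F' m) ∧
      ∃ s : Finset (Polynomial ℚ), ∀ F', P F' → ∃ φ ∈ s, ∀ d : ℤ,
        (FGA.eulerCharLE k X (Pic13.twistOn k i F' d) n : ℚ) = φ.eval (d : ℚ) := by
  classical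
  haveI := CurveCohLib.isNoetherian_of_proper (k := k) (X := X)
  haveI : IsNoetherian T := { __ := ‹IsLocallyNoetherian T›, __ := ‹CompactSpace T› }
  let pr : Pic13.prodK k X q ⟶ T := pullback.snd (X ↘ Spec (CommRingCat.of k)) q
  haveI : IsProper pr := inferInstanceAs (IsProper (pullback.snd _ q))
  haveI : IsLocallyNoetherian (Pic13.prodK k X q) := LocallyOfFiniteType.isLocallyNoetherian pr
  let L := (Scheme.Modules.pullback (pullback.fst (X ↘ Spec (CommRingCat.of k)) q)).obj (O1 i)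
  have hL : RelAmple.IsRelAmple pr L :=
    AmpleX.isRelAmple_baseChange _ q (AmpleX.isRelAmple_of_isAmple _ (PnVan.isAmple_pull_twist i))
  have hLi : PicF.IsInvertible L := PicClLib.isInvertible_pullback _ (isInvertible_O1 i)
  let G : ℕ → (Pic13.prodK k X q).Modules := fun j => CohB1.tensorMod F (CohB1.tensorPow L j)
  have hG : ∀ j, Coh.IsCoh (G j) := fun j =>
    AmpleVan.isCoh_tensor hF (CurveDeg.isCoh_of_isInvertible (PicMul.isInvertible_tensorPow hLi j))
  have hiso : ∀ (F' : X.Modules) (t : Spec (CommRingCat.of k) ⟶ T) (ht : t ≫ q = 𝟙 _)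
      (_ : Pic13.fibreMod k X q t ht F ≅ F') (j : ℕ),
      Nonempty (Pic13.fibreMod k X q t ht (G j) ≅ Pic13.twistOn k i F' (j : ℤ)) := fun F' t ht e j => by
    refine PicMul.cl_eq_iff.1 ?_
    show PicF.pullCl (Pic13.sliceAt k X q t ht) (PicF.cl (G j)) = _
    rw [PicMul.cl_tensor, PicMul.pullCl_mul, PicMul.cl_tensorPow, PicMul.pullCl_pow,
      show PicF.cl L = PicF.pullCl (pullback.fst (X ↘ Spec (CommRingCat.of k)) q) (PicF.cl (O1 i)) from rfl,
      ← PicLoc.pullCl_comp, show Pic13.sliceAt k X q t ht ≫ pullback.fst _ _ = 𝟙 X from pullback.lift_fst _ _ _,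
      PicClLib.pullCl_id, cl_twistOn_natCast,
      show PicF.pullCl (Pic13.sliceAt k X q t ht) (PicF.cl F) = PicF.cl F' from PicMul.cl_eq_iff.2 ⟨e⟩]
  refine ⟨?_, ?_⟩
  · obtain ⟨N, hN⟩ := HilbSnap.exists_uniform_fiber_vanishing pr hLi hL hF
    refine ⟨((N + n : ℕ) : ℤ), fun F' hF' p hp => ?_⟩
    rcases Nat.lt_or_ge n p with h | h
    · exact subsingleton_HH_high i (hP F' hF') _ p h
    obtain ⟨p, rfl⟩ := Nat.exists_eq_add_of_le' hp
    obtain ⟨t, ht, ⟨e⟩⟩ := hmem F' hF'
    obtain ⟨a, ha⟩ := Nat.exists_eq_add_of_le (show p + 1 ≤ N + n by omega)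
    rw [show ((N + n : ℕ) : ℤ) - ((p + 1 : ℕ) : ℤ) = (a : ℤ) by rw [ha]; push_cast; ring]
    obtain ⟨e'⟩ := hiso F' t ht e a
    have h0 := fiberRank_fibre q (hG a).1 t ht (p + 1)
    rw [hN a (by omega) _ p, (CurveCohLib.hhEquiv (k := k) e' (p + 1)).finrank_eq] at h0
    haveI := CurveCohLib.finite_HH (k := k) (isCoh_twistOn i (hP F' hF') (a : ℤ)) (p + 1)
    exact Module.finrank_zero_iff.1 h0.symm
  · obtain ⟨I, hI⟩ := HilbStrat.exists_finset_stratum (f := pr) (F := F) hLi (QCoh.isCoh_iff_isFP.1 hF)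
    refine ⟨I, fun F' hF' => ?_⟩
    obtain ⟨t, ht, ⟨e⟩⟩ := hmem F' hF'
    obtain ⟨Q, hQI, hQ⟩ := hI (t (IsLocalRing.closedPoint k))
    obtain ⟨φ, hφ⟩ := exists_hilbert_poly i (hP F' hF')
    have hQφ : Q = φ := HilbStrat.eq_of_eventually_eval_eq 0 fun j _ => by
      rw [← hQ j, ← Int.cast_natCast (R := ℚ) j, ← hφ, eulerCharLE_twistOn i (hP F' hF')]
      refine congrArg Int.cast (finsum_congr fun a => ?_)
      rw [PBC.betti_eq_fiberRank, fiberRank_fibre q (hG j).1 t ht a,
        (CurveCohLib.hhEquiv (k := k) (hiso F' t ht e j).some a).finrank_eq]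
    exact ⟨φ, hQφ ▸ hQI, hφ⟩

end Groth.Agent.TauNum

end
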