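import Groth.Agent.CurveAlgEquiv.Group

/-!
# Pullback of classes algebraically equivalent to zero
-/

set_option autoImplicit false
set_option linter.style.haveILetI false
set_option backward.isDefEq.respectTransparency false
set_option backward.isDefEq.respectTransparency.types false

universe u

open CategoryTheory CategoryTheory.Limits AlgebraicGeometry

namespace Groth.Agent.TauNum

open Groth.Agent Groth.Agent.H23
open scoped Groth.Agent.H23.PicMul

variable {k : Type u} [Field k] {X : Scheme.{u}} [X.Over (Spec (CommRingCat.of k))]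
  {Y : Scheme.{u}} [Y.Over (Spec (CommRingCat.of k))]

theorem ae_pull (i : Y ⟶ X) (hi : i ≫ (X ↘ Spec (CommRingCat.of k)) = Y ↘ Spec (CommRingCat.of k))
    {c : PicF.Cl X} (h : CurveAlgEquiv.AE k X c) : CurveAlgEquiv.AE k Y (PicF.pullCl i c) := by
  obtain ⟨T, q, h1, h2, h3, m, hm, t, t₀, ht, ht₀, e, e₀⟩ := h
  let P : Pic13.prodK k Y q ⟶ Pic13.prodK k X q :=
    pullback.lift (pullback.fst _ _ ≫ i) (pullback.snd _ _) (by rw [Category.assoc, hi, pullback.condition])
  have hs : ∀ (a : Spec (CommRingCat.of k) ⟶ T) (ha : a ≫ q = 𝟙 _),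
      Pic13.sliceAt k Y q a ha ≫ P = i ≫ Pic13.sliceAt k X q a ha := fun a ha => by
    apply pullback.hom_ext
    · simp [P, Pic13.sliceAt]
      exact Category.id_comp i
    · simp [P, Pic13.sliceAt, reassoc_of% hi]
  refine ⟨T, q, h1, h2, h3, PicF.pullCl P m, CurveAlgEquiv.isInvertibleCl_pull P hm, t, t₀, ht, ht₀, ?_, ?_⟩
  · rw [← PicLoc.pullCl_comp, hs, PicLoc.pullCl_comp, e]
  · rw [← PicLoc.pullCl_comp, hs, PicLoc.pullCl_comp, e₀, PicMul.pullCl_one]

end Groth.Agent.TauNum
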