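import Groth.Agent.CurveAlgEquiv.Main
import Groth.Agent.MorLib.FlatBC
import Groth.Agent.AmpleVan.Vanish
import Groth.Agent.ZClosLib.CohDescent
import Groth.Agent.TwistFlat.H0Flat
import Groth.Agent.Snapper.Main

/-!
# Euler characteristics are invariant under algebraic equivalence
-/

set_option autoImplicit false
set_option linter.style.haveILetI false
set_option linter.unusedSectionVars false
set_option backward.isDefEq.respectTransparency false
set_option backward.isDefEq.respectTransparency.types false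
attribute [-instance] CategoryTheory.catToReflQuiver

universe u

open CategoryTheory CategoryTheory.Limits AlgebraicGeometry TopologicalSpace Opposite

namespace Groth.Agent.TauNum

open Groth.Agent Groth.Agent.H23
open scoped Groth.Agent.H23.PicMul

variable {k : Type u} [Field k] {C : Scheme.{u}} [C.Over (Spec (CommRingCat.of k))]

theorem isFlatOver_field (F : C.Modules) : FlatMod.IsFlatOver (C ↘ Spec (CommRingCat.of k)) F := fun x => by
  show FlatMod.IsFlatOverAt (C ↘ Spec (CommRingCat.of k)) F x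
  unfold FlatMod.IsFlatOverAt
  letI := FlatMod.moduleStalkOver (C ↘ Spec (CommRingCat.of k)) F x
  haveI : Subsingleton ↥(Spec (CommRingCat.of k)) := inferInstanceAs (Subsingleton (PrimeSpectrum k))
  have hF : IsField ((Spec (CommRingCat.of k)).presheaf.stalk ((C ↘ Spec (CommRingCat.of k)).base x)) := by
    rw [Subsingleton.elim ((C ↘ Spec (CommRingCat.of k)).base x) (genericPoint ↥(Spec (CommRingCat.of k)))]
    exact Field.toIsField (Spec (CommRingCat.of k)).functionField
  letI := hF.toField
  infer_instance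

variable [IsProper (C ↘ Spec (CommRingCat.of k))]

set_option maxHeartbeats 1000000 in
theorem fibreEuler_at_point {d : ℕ} (hdim : topologicalKrullDim ↥C ≤ d) {T : Scheme.{u}}
    (q : T ⟶ Spec (CommRingCat.of k)) [IsLocallyNoetherian T] {M : (Pic13.prodK k C q).Modules} (hM : Coh.IsQCoh M)
    (t : Spec (CommRingCat.of k) ⟶ T) (ht : t ≫ q = 𝟙 _) :
    FamEuler.fibreEuler (pullback.snd (C ↘ Spec (CommRingCat.of k)) q) M (t (IsLocalRing.closedPoint k)) =
      FGA.eulerCharLE k C (Pic13.fibreMod k C q t ht M) d := by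
  let f := C ↘ Spec (CommRingCat.of k)
  let pr := pullback.snd f q
  let p := t (IsLocalRing.closedPoint k)
  let φ : T.residueField p →+* k := (Scheme.descResidueField (Scheme.stalkClosedPointTo t)).hom
  have hfac : Spec.map (CommRingCat.ofHom φ) ≫ T.fromSpecResidueField p = t :=
    Scheme.descResidueField_stalkClosedPointTo_fromSpecResidueField k T t
  let σ : C ⟶ Pic13.prodK k C q := Pic13.sliceAt k C q t ht
  let h : C ⟶ pr.fiber p := pullback.lift σ (f ≫ Spec.map (CommRingCat.ofHom φ)) (by
    rw [Category.assoc, hfac]; exact pullback.lift_snd _ _ _)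
  have hh1 : h ≫ pr.fiberι p = σ := pullback.lift_fst _ _ _
  have hh2 : h ≫ pr.fiberToSpecResidueField p = f ≫ Spec.map (CommRingCat.ofHom φ) := pullback.lift_snd _ _ _
  have H1 : IsPullback σ f pr t := by
    refine IsPullback.of_right ?_ (pullback.lift_snd _ _ _).symm.symm (IsPullback.of_hasPullback f q)
    have e1 : σ ≫ pullback.fst f q = 𝟙 C := pullback.lift_fst _ _ _
    rw [e1, ht]
    exact IsPullback.of_horiz_isIso ⟨by rw [Category.id_comp, Category.comp_id]⟩
  have H2 : IsPullback h f (pr.fiberToSpecResidueField p) (Spec.map (CommRingCat.ofHom φ)) := by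
    refine IsPullback.of_right ?_ hh2 (IsPullback.of_hasPullback pr (T.fromSpecResidueField p))
    rw [hfac]
    exact hh1.symm ▸ H1
  letI : Algebra (T.residueField p) k := φ.toAlgebra
  haveI : IsProper pr := inferInstanceAs (IsProper (pullback.snd f q))
  haveI : IsProper (pr.fiberToSpecResidueField p) := inferInstanceAs (IsProper (pullback.snd pr (T.fromSpecResidueField p)))
  haveI : CompactSpace (pr.fiber p) := QuasiCompact.compactSpace_of_compactSpace (pr.fiberToSpecResidueField p)
  haveI : QuasiSeparatedSpace (pr.fiber p) := quasiSeparatedSpace_of_quasiSeparated (pr.fiberToSpecResidueField p)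
  have hqM : Coh.IsQCoh (CohIII.fiberMod pr M p) := QCoh.isQCoh_pullback _ hM
  let e : (Scheme.Modules.pullback h).obj (CohIII.fiberMod pr M p) ≅ Pic13.fibreMod k C q t ht M :=
    (Scheme.Modules.pullbackComp h (pr.fiberι p)).app M ≪≫ (Scheme.Modules.pullbackCongr hh1).app M
  have key : ∀ i, Module.finrank k (Coh.HH C (Pic13.fibreMod k C q t ht M) i) = CohIII.fiberRank pr M i p := fun i => by
    rw [← (CurveCohLib.hhEquiv (k := k) e i).finrank_eq]
    letI : (pr.fiber p).Over (Spec (CommRingCat.of (T.residueField p))) := ⟨pr.fiberToSpecResidueField p⟩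
    exact CurveBC.finrank_hh (T.residueField p) (X := pr.fiber p) k (X' := C) h H2 _ hqM i
  show (∑ᶠ j : ℕ, (-1 : ℤ) ^ j * (CohIII.fiberRank pr M j p : ℤ)) = _
  refine (finsum_eq_sum_of_support_subset (s := Finset.range (d + 1)) _ ?_).trans
    (Finset.sum_congr rfl fun j _ => by rw [key j])
  intro j hj
  rw [Finset.coe_range, Set.mem_Iio]
  by_contra hj2
  refine hj ?_
  haveI := CurveCohLib.isNoetherian_of_proper (k := k) (X := C)
  haveI : C.IsSeparated := ⟨by
    rw [show terminal.from C = f ≫ terminal.from _ from terminal.hom_ext _ _]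
    infer_instance⟩
  haveI : Subsingleton (Coh.HH C (Pic13.fibreMod k C q t ht M) j) :=
    Snapper.subsingleton_HH_of_dim_le (d := d) hdim (QCoh.isQCoh_pullback _ hM) (by omega)
  show (-1 : ℤ) ^ j * (CohIII.fiberRank pr M j p : ℤ) = 0
  rw [← key j, Module.finrank_zero_of_subsingleton]
  simp

theorem eulerCharLE_tensor_eq_of_algEquiv {d : ℕ} (hdim : topologicalKrullDim ↥C ≤ d) {F : C.Modules}
    (hF : Coh.IsCoh F) {L : C.Modules} (h : Pic13.IsAlgEquivZero k C L) :
    FGA.eulerCharLE k C (CohB1.tensorMod F L) d = FGA.eulerCharLE k C F d := by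
  obtain ⟨T, q, h1, h2, h3, M, hM, t, t₀, ht, ht₀, ⟨e⟩, ⟨e₀⟩⟩ := h
  haveI := h1; haveI := h2; haveI := h3
  haveI : IsLocallyNoetherian T := LocallyOfFiniteType.isLocallyNoetherian q
  haveI : IsLocallyNoetherian (Pic13.prodK k C q) :=
    LocallyOfFiniteType.isLocallyNoetherian (pullback.snd (C ↘ Spec (CommRingCat.of k)) q)
  haveI := KFlatLib.hasInjectiveResolutions_modules (X := Pic13.prodK k C q)
  let F' := (Scheme.Modules.pullback (pullback.fst (C ↘ Spec (CommRingCat.of k)) q)).obj F
  have hG : Coh.IsCoh (CohB1.tensorMod F' M) :=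
    AmpleVan.isCoh_tensor (ZClosLib.isCoh_pullback _ hF) (CurveDeg.isCoh_of_isInvertible hM)
  have hfl : FlatMod.IsFlatOver (pullback.snd (C ↘ Spec (CommRingCat.of k)) q) (CohB1.tensorMod F' M) :=
    TwistFlat.isFlatOver_tensor _ hM fun x => MorLib.FlatBC.isFlatOverAt_baseChange _ _ _ _
      (IsPullback.of_hasPullback (C ↘ Spec (CommRingCat.of k)) q) F x (isFlatOver_field F _)
  have hlc := FamEuler.isLocallyConstant_fibreEuler (pullback.snd (C ↘ Spec (CommRingCat.of k)) q) _ hG hfl
  have h' := hlc.apply_eq_of_preconnectedSpace (t (IsLocalRing.closedPoint k)) (t₀ (IsLocalRing.closedPoint k))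
  rw [fibreEuler_at_point hdim q hG.1 t ht, fibreEuler_at_point hdim q hG.1 t₀ ht₀] at h'
  have he : ∀ {N N' : C.Modules} (e : N ≅ N'), FGA.eulerCharLE k C N d = FGA.eulerCharLE k C N' d := fun e =>
    Finset.sum_congr rfl fun i _ => by rw [(CurveCohLib.hhEquiv (k := k) e i).finrank_eq]
  have hcl : ∀ (a : Spec (CommRingCat.of k) ⟶ T) (ha : a ≫ q = 𝟙 _),
      PicF.cl (Pic13.fibreMod k C q a ha (CohB1.tensorMod F' M)) =
        PicF.cl F * PicF.cl (Pic13.fibreMod k C q a ha M) := fun a ha => by
    show PicF.pullCl (Pic13.sliceAt k C q a ha) (PicF.cl (CohB1.tensorMod F' M)) = _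
    rw [PicMul.cl_tensor, PicMul.pullCl_mul,
      show PicF.cl F' = PicF.pullCl (pullback.fst (C ↘ Spec (CommRingCat.of k)) q) (PicF.cl F) from rfl,
      ← PicLoc.pullCl_comp, show Pic13.sliceAt k C q a ha ≫ pullback.fst _ _ = 𝟙 C from pullback.lift_fst _ _ _,
      PicClLib.pullCl_id]
    rfl
  have a1 : PicF.cl (Pic13.fibreMod k C q t ht (CohB1.tensorMod F' M)) = PicF.cl (CohB1.tensorMod F L) := by
    rw [hcl, PicMul.cl_tensor, PicMul.cl_eq_iff.2 ⟨e⟩]
  have a0 : PicF.cl (Pic13.fibreMod k C q t₀ ht₀ (CohB1.tensorMod F' M)) = PicF.cl F := by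
    rw [hcl, PicMul.cl_eq_iff.2 ⟨e₀⟩, ← PicMul.one_def, mul_one]
  rw [← he (PicMul.cl_eq_iff.1 a1).some, ← he (PicMul.cl_eq_iff.1 a0).some]
  exact h'

end Groth.Agent.TauNum
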